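import Mathlib
import Cfsg.Prelude.Def_Classical
import Cfsg.Agent.S2587
import Cfsg.Agent.Helper45.SUBasic
import Cfsg.Agent.Helper86.Spec4.Defs

set_option autoImplicit false

/-!
# S2511: definitions for the architected proof (helper43), mirroring helper86's S2510

`cU q n`: the order of the image in `PSU_n(q)` of a cyclic maximal torus of order
`(q^n - (-1)^n)/(q+1)` of `SU_n(q)`.  Conjugate transpose: `Cfsg.Agent.S2587.st bar M = (M.map bar)ᵀ`.
-/

namespace Cfsg.Agent.Helper43.Spec5

open Matrix Cfsg.Agent.S2587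

/-- The order `(q^n - (-1)^n) / ((q + 1) gcd(n, q + 1))` of a Singer-type cycle of `PSU_n(q)`. -/
def cU (q n : ℕ) : ℕ :=
  (if Even n then q ^ n - 1 else q ^ n + 1) / ((q + 1) * Nat.gcd n (q + 1))

variable {F : Type*} [Field F] {n q : ℕ}

/-- matrix characterisation of `SU`: `x* x = 1`. -/
theorem mem_SU_iff_st (bar : F →+* F) (hbar : ∀ x, bar x = x ^ q)
    (g : Matrix.SpecialLinearGroup (Fin n) F) :
    g ∈ Cfsg.SU n F q ↔ st bar g.1 * g.1 = 1 := by
  rw [Cfsg.Agent.Helper45.GU.mem_SU_iff n bar hbar g]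
  have key : st bar g.1 * g.1 = (g.1ᵀ * g.1.map bar)ᵀ := by
    unfold st
    rw [Matrix.transpose_mul, Matrix.transpose_transpose]
  constructor
  · intro h
    rw [key, Cfsg.Agent.Helper45.GU.unitary_of_herm bar _ h, Matrix.transpose_one]
  · intro h u v
    have h2 : g.1ᵀ * g.1.map bar = 1 := by
      have := congrArg Matrix.transpose h
      rw [key, Matrix.transpose_transpose, Matrix.transpose_one] at this
      exact this
    rw [Cfsg.Agent.Helper45.GU.herm_mulVec, h2, Matrix.one_mulVec]
    rfl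

end Cfsg.Agent.Helper43.Spec5
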